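import Groth.Agent.Ref1.Sp
import Groth.Agent.AbVarLib.ExtendCurve
import Groth.Agent.Omega.GenericSep
import Groth.Agent.CDivLib.Basic

/-!
# Function field isomorphisms of proper normal varieties have centres in codimension one
-/

set_option autoImplicit false
set_option linter.style.haveILetI false

universe u

open CategoryTheory Limits AlgebraicGeometry

noncomputable section

namespace Groth.Agent.BiratForms70

open Groth.Agent.Ref1

variable (k : Type u) [Field k]

theorem spR_stalkMap {X : Scheme.{u}} [X.Over (Spec (CommRingCat.of k))] {y x : X} (h : y ⤳ x) (c : k) :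
    spR h (Curv2.stalkMap k X x c) = Curv2.stalkMap k X y c :=
  spR_germ h (U := ⊤) trivial _

/-- The function fields of schemes with isomorphic nonempty opens are isomorphic over `k`. -/
theorem exists_fieldEquiv {X X' : Scheme.{u}} [IsIntegral X] [IsIntegral X']
    [X.Over (Spec (CommRingCat.of k))] [X'.Over (Spec (CommRingCat.of k))]
    (U : X.Opens) (U' : X'.Opens) (hU : (U : Set X).Nonempty) (e : (U : Scheme.{u}) ≅ (U' : Scheme.{u}))
    (he : e.hom ≫ U'.ι ≫ (X' ↘ Spec (CommRingCat.of k)) = U.ι ≫ (X ↘ Spec (CommRingCat.of k))) :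
    ∃ τ : X'.presheaf.stalk (genericPoint X') ≃+* X.presheaf.stalk (genericPoint X),
      ∀ c, τ (Curv2.stalkMap k X' (genericPoint X') c) = Curv2.stalkMap k X (genericPoint X) c := by
  haveI : Nonempty (U : Scheme.{u}) := hU.to_subtype
  haveI : IsIntegral (U : Scheme.{u}) := isIntegral_of_isOpenImmersion U.ι
  let u := genericPoint (U : Scheme.{u})
  let j := e.hom ≫ U'.ι
  have hι : U.ι u = genericPoint X := genericPoint_eq_of_isOpenImmersion U.ι
  have hj : j u = genericPoint X' := genericPoint_eq_of_isOpenImmersion j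
  let e1 : X'.presheaf.stalk (genericPoint X') ≅ X'.presheaf.stalk (j u) :=
    X'.presheaf.stalkCongr (.of_eq hj.symm)
  let e2 : X.presheaf.stalk (U.ι u) ≅ X.presheaf.stalk (genericPoint X) :=
    X.presheaf.stalkCongr (.of_eq hι)
  let E := e1 ≪≫ asIso (j.stalkMap u) ≪≫ (asIso (U.ι.stalkMap u)).symm ≪≫ e2
  refine ⟨E.commRingCatIsoToRingEquiv, fun c => ?_⟩
  have h1 : j.stalkMap u (Curv2.stalkMap k X' (j u) c) = U.ι.stalkMap u (Curv2.stalkMap k X (U.ι u) c) := by
    show j.stalkMap u (X'.presheaf.germ ⊤ (j u) trivial _) = U.ι.stalkMap u (X.presheaf.germ ⊤ (U.ι u) trivial _)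
    rw [Scheme.Hom.germ_stalkMap_apply, Scheme.Hom.germ_stalkMap_apply]
    refine congrArg ((U : Scheme.{u}).presheaf.germ ⊤ u trivial) ?_
    have h2 : (j ≫ (X' ↘ Spec (CommRingCat.of k))).appTop = (U.ι ≫ (X ↘ Spec (CommRingCat.of k))).appTop := by
      rw [show j ≫ (X' ↘ Spec (CommRingCat.of k)) = U.ι ≫ (X ↘ Spec (CommRingCat.of k)) from
        (Category.assoc _ _ _).trans he]
    exact congr($h2 ((Scheme.ΓSpecIso (CommRingCat.of k)).inv c))
  show e2.hom (inv (U.ι.stalkMap u) (j.stalkMap u (e1.hom (Curv2.stalkMap k X' (genericPoint X') c)))) = _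
  rw [show e1.hom (Curv2.stalkMap k X' (genericPoint X') c) = Curv2.stalkMap k X' (j u) c from
    spR_stalkMap k (Inseparable.of_eq hj.symm).ge c, h1,
    show inv (U.ι.stalkMap u) (U.ι.stalkMap u (Curv2.stalkMap k X (U.ι u) c)) = Curv2.stalkMap k X (U.ι u) c from
      congr($(IsIso.hom_inv_id (U.ι.stalkMap u)) _)]
  exact spR_stalkMap k (Inseparable.of_eq hι).ge c

/-- Centres of codimension one points on a proper scheme. -/
theorem exists_center {X X' : Scheme.{u}} [IsIntegral X] [IsIntegral X'] [IsLocallyNoetherian X]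
    (hX : Pi1.IsNormalScheme X)
    [X.Over (Spec (CommRingCat.of k))] [X'.Over (Spec (CommRingCat.of k))]
    [IsProper (X' ↘ Spec (CommRingCat.of k))]
    (τ : X'.presheaf.stalk (genericPoint X') →+* X.presheaf.stalk (genericPoint X))
    (hτ : ∀ c, τ (Curv2.stalkMap k X' (genericPoint X') c) = Curv2.stalkMap k X (genericPoint X) c)
    (y : X) (hy : ringKrullDim (X.presheaf.stalk y) = 1) :
    ∃ (y' : X') (ρ : X'.presheaf.stalk y' →+* X.presheaf.stalk y),
      (∀ a, toK y (ρ a) = τ (toK y' a)) ∧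
      ∀ c, ρ (Curv2.stalkMap k X' y' c) = Curv2.stalkMap k X y c := by
  haveI : IsDomain (X.presheaf.stalk y) :=
    Function.Injective.isDomain _ (IsFractionRing.injective (X.presheaf.stalk y) X.functionField)
  haveI : IsIntegrallyClosed (X.presheaf.stalk y) := (hX y).2
  haveI : IsDiscreteValuationRing (X.presheaf.stalk y) := by
    haveI : Ring.KrullDimLE 1 (X.presheaf.stalk y) := Ring.krullDimLE_iff.mpr hy.le
    have hnf : ¬ IsField (X.presheaf.stalk y) := fun hf => by
      rw [ringKrullDim_eq_zero_of_isField hf] at hy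
      exact zero_ne_one hy
    have hiff : IsDiscreteValuationRing (X.presheaf.stalk y) ↔ IsIntegrallyClosed (X.presheaf.stalk y) ∧
        ∃! P : Ideal (X.presheaf.stalk y), P ≠ ⊥ ∧ P.IsPrime :=
      (IsDiscreteValuationRing.TFAE (X.presheaf.stalk y) hnf).out 0 3
    refine hiff.2 ⟨inferInstance,
      IsLocalRing.maximalIdeal (X.presheaf.stalk y), ⟨?_, inferInstance⟩, fun P ⟨hP, hPp⟩ => ?_⟩
    · exact fun h0 => hnf (IsLocalRing.isField_iff_maximalIdeal_eq.2 h0)
    · exact IsLocalRing.eq_maximalIdeal (hPp.isMaximal_of_ne_bot hP)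
  have hsq : (Spec.map (CommRingCat.ofHom τ) ≫ X'.fromSpecStalk (genericPoint X')) ≫
      (X' ↘ Spec (CommRingCat.of k)) =
        Spec.map (X.presheaf.stalkSpecializes (hsp y)) ≫ X.fromSpecStalk y ≫ (X ↘ Spec (CommRingCat.of k)) := by
    rw [← Category.assoc (Spec.map (X.presheaf.stalkSpecializes (hsp y))),
      Scheme.SpecMap_stalkSpecializes_fromSpecStalk, Category.assoc,
      Omega.GenericSep.fromSpecStalk_comp k X', Omega.GenericSep.fromSpecStalk_comp k X, ← Spec.map_comp]
    congr 1
    ext c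
    exact hτ c
  obtain ⟨l, hl, -⟩ := AbVarLib.ExtendCurve.exists_lift_valuation (X' ↘ Spec (CommRingCat.of k))
    (X.presheaf.stalk y) X.functionField (Field.toIsField X.functionField) (X.presheaf.stalkSpecializes (hsp y))
    (inferInstanceAs (IsFractionRing (X.presheaf.stalk y) X.functionField))
    (Spec.map (CommRingCat.ofHom τ) ≫ X'.fromSpecStalk (genericPoint X')) _ hsq
  let y' := l (IsLocalRing.closedPoint (X.presheaf.stalk y))
  let ρ := Scheme.stalkClosedPointTo l
  have hρ : ∀ a, toK y (ρ a) = τ (toK y' a) := by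
    have h1 : Spec.map (ρ ≫ X.presheaf.stalkSpecializes (hsp y)) ≫ X'.fromSpecStalk y' =
        Spec.map (X'.presheaf.stalkSpecializes (hsp y') ≫ CommRingCat.ofHom τ) ≫ X'.fromSpecStalk y' := by
      rw [Spec.map_comp, Spec.map_comp, Category.assoc, Category.assoc,
        Scheme.Spec_stalkClosedPointTo_fromSpecStalk, Scheme.SpecMap_stalkSpecializes_fromSpecStalk]
      exact hl
    have h2 := Spec.map_injective ((cancel_mono (X'.fromSpecStalk y')).1 h1)
    exact fun a => congr($h2 a)
  refine ⟨y', ρ.hom, hρ, fun c => toK_injective y ?_⟩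
  refine (hρ _).trans ?_
  rw [toK, toK, spR_stalkMap, spR_stalkMap, hτ]

end Groth.Agent.BiratForms70

end
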