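import Groth.Agent.BiratForms70.Sections
import Groth.Agent.BiratForms70.Center
import Groth.Agent.ExtPowSt.Stalk
import Groth.Agent.Omega.SeparableMono
import Groth.Agent.Omega.Stalks
import Groth.Agent.Ref1.Class

/-!
# Transfer of exterior powers of differentials along function field isomorphisms
-/

set_option autoImplicit false

universe u

open CategoryTheory Limits AlgebraicGeometry Opposite TopologicalSpace
open scoped TensorProduct

noncomputable section

namespace Groth.Agent.BiratForms70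

open Groth.Agent.PullStalk.Sky Groth.Agent.HomShQC Groth.Agent.QCoh Groth.Agent.Ref1 Groth.Agent.ExtPowSt

variable (k : Type u) [Field k]

section Diff

variable {X : Scheme.{u}} [X.Over (Spec (CommRingCat.of k))] {Ω : X.Modules}
  {d : OmegaSh.Der (X ↘ Spec (CommRingCat.of k)) Ω} (hd : OmegaSh.IsUniversal d)

include hd in
theorem exists_dlt (x : X) : ∃ δ : X.presheaf.stalk x →+ Ω.presheaf.stalk x,
    (∀ a b, δ (a * b) = a • δ b + b • δ a) ∧ (∀ c, δ (Curv2.stalkMap k X x c) = 0) ∧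
      (∀ U (hx : x ∈ U) s, δ (X.presheaf.germ U x hx s) = germM Ω U x hx (d.app U s)) ∧
      ∀ (N : Type u) [AddCommGroup N] [Module (X.presheaf.stalk x) N] (e : X.presheaf.stalk x →+ N),
        (∀ a b, e (a * b) = a • e b + b • e a) → (∀ c, e (Curv2.stalkMap k X x c) = 0) →
          ∃! l : Ω.presheaf.stalk x →ₗ[X.presheaf.stalk x] N, ∀ a, l (δ a) = e a := by
  obtain ⟨δ, h₁, h₂, h₃, h₄⟩ := Omega.Stalks.exists_stalk_universal hd x
  let p := X ↘ Spec (CommRingCat.of k)
  let σk : k →+* (Spec (CommRingCat.of k)).presheaf.stalk (p x) :=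
    ((Scheme.ΓSpecIso (CommRingCat.of k)).inv ≫
      (Spec (CommRingCat.of k)).presheaf.germ ⊤ (p x) trivial).hom
  have hk : ∀ c, p.stalkMap x (σk c) = Curv2.stalkMap k X x c := fun c =>
    Scheme.Hom.germ_stalkMap_apply p ⊤ x trivial _
  refine ⟨δ, h₁, fun c => by rw [← hk]; exact h₂ _, h₃, fun N _ _ e he₁ he₂ => h₄ N e he₁ fun t => ?_⟩
  obtain ⟨t, rfl⟩ := Omega.SeparableMono.specField_stalk_surjective k (p x) t
  exact (congrArg e (hk t)).trans (he₂ t)

/-- The derivation on stalks. -/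
def dlt (x : X) : X.presheaf.stalk x →+ Ω.presheaf.stalk x := (exists_dlt k hd x).choose

theorem dlt_mul (x : X) (a b : X.presheaf.stalk x) :
    dlt k hd x (a * b) = a • dlt k hd x b + b • dlt k hd x a := (exists_dlt k hd x).choose_spec.1 a b

theorem dlt_const (x : X) (c : k) : dlt k hd x (Curv2.stalkMap k X x c) = 0 :=
  (exists_dlt k hd x).choose_spec.2.1 c

theorem sp_dlt {y x : X} (h : y ⤳ x) (a : X.presheaf.stalk x) :
    sp Ω h (dlt k hd x a) = dlt k hd y (spR h a) := by
  obtain ⟨U, hx, s, rfl⟩ := X.presheaf.exists_germ_eq (x := x) a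
  rw [spR_germ h hx, dlt, dlt, (exists_dlt k hd x).choose_spec.2.2.1,
    (exists_dlt k hd y).choose_spec.2.2.1, sp_germ]

theorem diff_ext {B N : Type u} [CommRing B] [AddCommGroup N] [Module B N] {x : X}
    {g : X.presheaf.stalk x →+* B} {f₁ f₂ : Ω.presheaf.stalk x →ₛₗ[g] N}
    (h : ∀ a, f₁ (dlt k hd x a) = f₂ (dlt k hd x a)) : f₁ = f₂ := by
  letI : Module (X.presheaf.stalk x) N := Module.compHom N g
  let l₁ : Ω.presheaf.stalk x →ₗ[X.presheaf.stalk x] N :=
    { toFun := f₁, map_add' := map_add f₁, map_smul' := fun a m => f₁.map_smulₛₗ a m }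
  let l₂ : Ω.presheaf.stalk x →ₗ[X.presheaf.stalk x] N :=
    { toFun := f₂, map_add' := map_add f₂, map_smul' := fun a m => f₂.map_smulₛₗ a m }
  let e : X.presheaf.stalk x →+ N := l₁.toAddMonoidHom.comp (dlt k hd x)
  obtain ⟨m, -, hm⟩ := (exists_dlt k hd x).choose_spec.2.2.2 N e
    (fun a b => by
      show l₁ (dlt k hd x (a * b)) = a • l₁ (dlt k hd x b) + b • l₁ (dlt k hd x a)
      rw [dlt_mul, map_add, map_smul, map_smul])
    (fun c => by
      show l₁ (dlt k hd x (Curv2.stalkMap k X x c)) = 0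
      rw [dlt_const, map_zero])
  have e1 : l₁ = l₂ := (hm l₁ fun _ => rfl).trans (hm l₂ fun a => (h a).symm).symm
  exact LinearMap.ext fun v => LinearMap.congr_fun e1 v

variable {X' : Scheme.{u}} [X'.Over (Spec (CommRingCat.of k))] {Ω' : X'.Modules}
  {d' : OmegaSh.Der (X' ↘ Spec (CommRingCat.of k)) Ω'} (hd' : OmegaSh.IsUniversal d')

theorem exists_ψ {x : X} {x' : X'} (ρ : X'.presheaf.stalk x' →+* X.presheaf.stalk x)
    (hρ : ∀ c, ρ (Curv2.stalkMap k X' x' c) = Curv2.stalkMap k X x c) :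
    ∃ ψ : Ω'.presheaf.stalk x' →ₛₗ[ρ] Ω.presheaf.stalk x, ∀ a, ψ (dlt k hd' x' a) = dlt k hd x (ρ a) := by
  letI : Module (X'.presheaf.stalk x') (Ω.presheaf.stalk x) := Module.compHom _ ρ
  obtain ⟨l, hl, -⟩ := (exists_dlt k hd' x').choose_spec.2.2.2 (Ω.presheaf.stalk x)
    ((dlt k hd x).comp ρ.toAddMonoidHom)
    (fun a b => by
      show dlt k hd x (ρ (a * b)) = ρ a • dlt k hd x (ρ b) + ρ b • dlt k hd x (ρ a)
      rw [map_mul, dlt_mul])
    (fun c => by
      show dlt k hd x (ρ (Curv2.stalkMap k X' x' c)) = 0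
      rw [hρ, dlt_const])
  exact ⟨{ toFun := l, map_add' := map_add l, map_smul' := fun a m => l.map_smul a m }, hl⟩

end Diff

variable {X X' : Scheme.{u}} [IsIntegral X] [IsIntegral X']

/-- Transfer of generic stalks respecting centres. -/
structure Xfer (τ : X'.presheaf.stalk (genericPoint X') →+* X.presheaf.stalk (genericPoint X))
    (G' : X'.Modules) (G : X.Modules) where
  T : G'.presheaf.stalk (genericPoint X') →+ G.presheaf.stalk (genericPoint X)
  smul : ∀ a w, T (a • w) = τ a • T w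
  range : ∀ (y : X) (y' : X') (ρ : X'.presheaf.stalk y' →+* X.presheaf.stalk y),
    (∀ a, toK y (ρ a) = τ (toK y' a)) → ∀ v, T (toη G' y' v) ∈ Set.range (toη G y)

variable [X.Over (Spec (CommRingCat.of k))] [X'.Over (Spec (CommRingCat.of k))]

theorem Xfer.good [IsLocallyNoetherian X] [IsLocallyNoetherian X'] [IsProper (X' ↘ Spec (CommRingCat.of k))]
    (hX : Pi1.IsNormalScheme X) (hX' : Pi1.IsNormalScheme X')
    {τ : X'.presheaf.stalk (genericPoint X') →+* X.presheaf.stalk (genericPoint X)}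
    (hτ : ∀ c, τ (Curv2.stalkMap k X' (genericPoint X') c) = Curv2.stalkMap k X (genericPoint X) c)
    {G' : X'.Modules} {G : X.Modules} (hG' : FreeCoh G') (f : Xfer τ G' G)
    (w : G'.presheaf.stalk (genericPoint X')) (hw : Good G' w) : Good G (f.T w) := fun y hy => by
  obtain ⟨y', ρ, hρ, -⟩ := exists_center k hX τ hτ y hy
  obtain ⟨v, rfl⟩ := hG'.mem_range hX' hw y'
  exact f.range y y' ρ hρ v

/-- Mutually inverse transfers. -/
def Xfer.IsInv {τ : X'.presheaf.stalk (genericPoint X') →+* X.presheaf.stalk (genericPoint X)}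
    {σ : X.presheaf.stalk (genericPoint X) →+* X'.presheaf.stalk (genericPoint X')}
    {G' : X'.Modules} {G : X.Modules} (f : Xfer τ G' G) (g : Xfer σ G G') : Prop :=
  (∀ w, g.T (f.T w) = w) ∧ ∀ w, f.T (g.T w) = w

theorem finrank_eq_of_xfer [IsLocallyNoetherian X] [IsLocallyNoetherian X']
    [IsProper (X ↘ Spec (CommRingCat.of k))] [IsProper (X' ↘ Spec (CommRingCat.of k))]
    (hX : Pi1.IsNormalScheme X) (hX' : Pi1.IsNormalScheme X')
    {τ : X'.presheaf.stalk (genericPoint X') ≃+* X.presheaf.stalk (genericPoint X)}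
    (hτ : ∀ c, τ (Curv2.stalkMap k X' (genericPoint X') c) = Curv2.stalkMap k X (genericPoint X) c)
    {G' : X'.Modules} {G : X.Modules} (hG' : FreeCoh G') (hG : FreeCoh G)
    (f : Xfer τ.toRingHom G' G) (g : Xfer τ.symm.toRingHom G G') (h : f.IsInv g) :
    Module.finrank k (Coh.HH X G 0) = Module.finrank k (Coh.HH X' G' 0) :=
  finrank_eq k hX hX' hG hG' τ.toRingHom hτ
    { toFun := f.T, invFun := g.T, left_inv := h.1, right_inv := h.2, map_add' := map_add f.T }
    f.smul (f.good k hX hX' hτ hG')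
    (g.good k hX' hX (fun c => τ.symm_apply_eq.2 (hτ c).symm) hG)

variable {τ : X'.presheaf.stalk (genericPoint X') →+* X.presheaf.stalk (genericPoint X)}

/-- Transfer of the structure sheaf. -/
def Xfer.unit : Xfer τ (Coh.structureModule X') (Coh.structureModule X) where
  T := (unitStalk (genericPoint X)).toAddMonoidHom.comp
    (τ.toAddMonoidHom.comp (unitStalk (genericPoint X')).symm.toAddMonoidHom)
  smul a w := by
    show unitStalk _ (τ ((unitStalk _).symm (a • w))) = τ a • unitStalk _ (τ ((unitStalk _).symm w))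
    rw [map_smul, smul_eq_mul, map_mul, ← smul_eq_mul, map_smul]
  range y y' ρ hρ v := by
    obtain ⟨r, rfl⟩ := (unitStalk y').surjective v
    refine ⟨unitStalk y (ρ r), ?_⟩
    show sp _ _ _ = unitStalk _ (τ ((unitStalk _).symm (sp _ _ _)))
    rw [sp_unitStalk, sp_unitStalk, LinearEquiv.symm_apply_apply]
    exact congrArg _ (hρ r)

variable {G' F' : X'.Modules} {G F : X.Modules}

/-- Transfer of a tensor product, on pure tensors. -/
def Xfer.tmulFun (f : Xfer τ G' G) (g : Xfer τ F' F) :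
    G'.presheaf.stalk (genericPoint X') ⊗[X'.presheaf.stalk (genericPoint X')] F'.presheaf.stalk (genericPoint X') →+
      G.presheaf.stalk (genericPoint X) ⊗[X.presheaf.stalk (genericPoint X)] F.presheaf.stalk (genericPoint X) :=
  TensorProduct.liftAddHom
    (AddMonoidHom.mk' (fun a => AddMonoidHom.mk' (fun b => f.T a ⊗ₜ g.T b) fun b₁ b₂ => by
      rw [map_add, TensorProduct.tmul_add]) fun a₁ a₂ => AddMonoidHom.ext fun b => by
      show f.T (a₁ + a₂) ⊗ₜ g.T b = f.T a₁ ⊗ₜ g.T b + f.T a₂ ⊗ₜ g.T b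
      rw [map_add, TensorProduct.add_tmul])
    fun r a b => by
      show f.T (r • a) ⊗ₜ g.T b = f.T a ⊗ₜ g.T (r • b)
      rw [f.smul, g.smul, TensorProduct.smul_tmul]

/-- The stalk of a tensor product. -/
def tEquiv {Z : Scheme.{u}} (A B : Z.Modules) (z : Z) :
    A.presheaf.stalk z ⊗[Z.presheaf.stalk z] B.presheaf.stalk z ≃ₗ[Z.presheaf.stalk z]
      (CohB1.tensorMod A B).presheaf.stalk z :=
  LinearEquiv.ofBijective (tfrom A B z) ⟨tfrom_injective _ _ _, tfrom_surjective _ _ _⟩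

/-- Transfer of a tensor product. -/
def Xfer.tensor (f : Xfer τ G' G) (g : Xfer τ F' F) : Xfer τ (CohB1.tensorMod G' F') (CohB1.tensorMod G F) where
  T := (tfrom G F (genericPoint X)).toAddMonoidHom.comp ((f.tmulFun g).comp
    (tEquiv G' F' (genericPoint X')).symm.toAddMonoidHom)
  smul a w := by
    obtain ⟨z, rfl⟩ := (tEquiv G' F' (genericPoint X')).surjective w
    show tfrom G F _ (f.tmulFun g ((tEquiv G' F' _).symm (a • tEquiv G' F' _ z))) =
      τ a • tfrom G F _ (f.tmulFun g ((tEquiv G' F' _).symm (tEquiv G' F' _ z)))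
    rw [← map_smul, LinearEquiv.symm_apply_apply, LinearEquiv.symm_apply_apply, ← map_smul]
    congr 1
    induction z with
    | zero => rw [smul_zero, map_zero, smul_zero]
    | add z₁ z₂ h₁ h₂ => rw [smul_add, map_add, map_add, smul_add, h₁, h₂]
    | tmul p q =>
      rw [TensorProduct.smul_tmul']
      show f.T (a • p) ⊗ₜ g.T q = τ a • (f.T p ⊗ₜ g.T q)
      rw [f.smul, TensorProduct.smul_tmul']
  range y y' ρ hρ v := by
    obtain ⟨z, rfl⟩ := tfrom_surjective G' F' y' v
    induction z with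
    | zero => exact ⟨0, by simp⟩
    | add z₁ z₂ h₁ h₂ =>
      obtain ⟨c₁, hc₁⟩ := h₁
      obtain ⟨c₂, hc₂⟩ := h₂
      exact ⟨c₁ + c₂, by simp only [map_add, hc₁, hc₂]⟩
    | tmul p q =>
      obtain ⟨c₁, hc₁⟩ := f.range y y' ρ hρ p
      obtain ⟨c₂, hc₂⟩ := g.range y y' ρ hρ q
      refine ⟨tfrom G F y (c₁ ⊗ₜ c₂), ?_⟩
      rw [toη, sp_fromTensor, toη, sp_fromTensor]
      show _ = tfrom G F _ (f.tmulFun g ((tEquiv G' F' _).symm (tEquiv G' F' _ (_ ⊗ₜ _))))
      rw [LinearEquiv.symm_apply_apply]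
      exact congrArg _ (congr_arg₂ (fun a b => a ⊗ₜ b) hc₁ hc₂)

theorem Xfer.tensor_apply (f : Xfer τ G' G) (g : Xfer τ F' F) (p : G'.presheaf.stalk (genericPoint X'))
    (q : F'.presheaf.stalk (genericPoint X')) :
    (f.tensor g).T (tfrom G' F' _ (p ⊗ₜ q)) = tfrom G F _ (f.T p ⊗ₜ g.T q) := by
  show tfrom G F _ (f.tmulFun g ((tEquiv G' F' _).symm (tEquiv G' F' _ (p ⊗ₜ q)))) = _
  rw [LinearEquiv.symm_apply_apply]
  rfl

theorem Xfer.tensor_left_inv {σ : X.presheaf.stalk (genericPoint X) →+* X'.presheaf.stalk (genericPoint X')}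
    {f : Xfer τ G' G} {g : Xfer τ F' F} {f₂ : Xfer σ G G'} {g₂ : Xfer σ F F'}
    (hf : ∀ w, f₂.T (f.T w) = w) (hg : ∀ w, g₂.T (g.T w) = w) (w) :
    (f₂.tensor g₂).T ((f.tensor g).T w) = w := by
  obtain ⟨z, rfl⟩ := tfrom_surjective G' F' _ w
  induction z with
  | zero => simp
  | add z₁ z₂ h₁ h₂ => simp only [map_add, h₁, h₂]
  | tmul p q => rw [Xfer.tensor_apply, Xfer.tensor_apply, hf, hg]

theorem Xfer.IsInv.tensor {σ : X.presheaf.stalk (genericPoint X) →+* X'.presheaf.stalk (genericPoint X')}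
    {f : Xfer τ G' G} {g : Xfer τ F' F} {f₂ : Xfer σ G G'} {g₂ : Xfer σ F F'}
    (hf : f.IsInv f₂) (hg : g.IsInv g₂) : (f.tensor g).IsInv (f₂.tensor g₂) :=
  ⟨Xfer.tensor_left_inv hf.1 hg.1, Xfer.tensor_left_inv hf.2 hg.2⟩

/-- Transfer of tensor powers. -/
def Xfer.pow (f : Xfer τ G' G) : ∀ m, Xfer τ (CohB1.tensorPow G' m) (CohB1.tensorPow G m)
  | 0 => Xfer.unit
  | m + 1 => (Xfer.pow f m).tensor f

theorem Xfer.IsInv.pow {σ : X.presheaf.stalk (genericPoint X) →+* X'.presheaf.stalk (genericPoint X')}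
    (hστ : ∀ a, σ (τ a) = a) (hτσ : ∀ a, τ (σ a) = a)
    {f : Xfer τ G' G} {g : Xfer σ G G'} (h : f.IsInv g) : ∀ m, (f.pow m).IsInv (g.pow m)
  | 0 => by
    refine ⟨fun w => ?_, fun w => ?_⟩
    · show unitStalk _ (σ ((unitStalk _).symm (unitStalk _ (τ ((unitStalk _).symm w))))) = w
      rw [LinearEquiv.symm_apply_apply, hστ, LinearEquiv.apply_symm_apply]
    · show unitStalk _ (τ ((unitStalk _).symm (unitStalk _ (σ ((unitStalk _).symm w))))) = w
      rw [LinearEquiv.symm_apply_apply, hτσ, LinearEquiv.apply_symm_apply]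
  | m + 1 => (Xfer.IsInv.pow hστ hτσ h m).tensor h

section Forms

variable (hτ : ∀ c, τ (Curv2.stalkMap k X' (genericPoint X') c) = Curv2.stalkMap k X (genericPoint X) c)
  {Ω : X.Modules} {d : OmegaSh.Der (X ↘ Spec (CommRingCat.of k)) Ω} (hd : OmegaSh.IsUniversal d)
  {Ω' : X'.Modules} {d' : OmegaSh.Der (X' ↘ Spec (CommRingCat.of k)) Ω'} (hd' : OmegaSh.IsUniversal d')
  [Ω.IsQuasicoherent] [Ω'.IsQuasicoherent]
  {q : ℕ} {L : X.Modules} {L' : X'.Modules} (Φ : Sys q Ω L) (Φ' : Sys q Ω' L')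

/-- Transfer of exterior powers of differentials. -/
def Xfer.forms : Xfer τ L' L where
  T := (stalkEquiv Φ _).symm.toAddMonoidHom.comp
    ((extσ τ q (exists_ψ k hd hd' τ hτ).choose).toAddMonoidHom.comp (stalkEquiv Φ' _).toAddMonoidHom)
  smul a w := by
    show (stalkEquiv Φ _).symm (extσ τ q _ (stalkEquiv Φ' _ (a • w))) =
      τ a • (stalkEquiv Φ _).symm (extσ τ q _ (stalkEquiv Φ' _ w))
    rw [map_smul, LinearMap.map_smulₛₗ, map_smul]
  range y y' ρ hρ v := by
    have hρk : ∀ c, ρ (Curv2.stalkMap k X' y' c) = Curv2.stalkMap k X y c := fun c => toK_injective y (by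
      rw [hρ, toK, toK, spR_stalkMap, spR_stalkMap, hτ])
    obtain ⟨ψ, hψ⟩ := exists_ψ k hd hd' ρ hρk
    refine ⟨(stalkEquiv Φ y).symm (extσ ρ q ψ (stalkEquiv Φ' y' v)), (stalkEquiv Φ _).injective ?_⟩
    show stalkEquiv Φ _ (sp L (hsp y) _) = stalkEquiv Φ _ ((stalkEquiv Φ _).symm _)
    rw [stalkEquiv_sp, LinearEquiv.apply_symm_apply, LinearEquiv.apply_symm_apply]
    show _ = extσ τ q _ (stalkEquiv Φ' _ (sp L' (hsp y') v))
    rw [stalkEquiv_sp]
    generalize stalkEquiv Φ' y' v = z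
    have hz : z ∈ Submodule.span (X'.presheaf.stalk y')
        (Set.range (exteriorPower.ιMulti (X'.presheaf.stalk y') q (M := Ω'.presheaf.stalk y'))) := by
      rw [exteriorPower.ιMulti_span]; trivial
    induction hz using Submodule.span_induction with
    | mem w hw =>
      obtain ⟨m, rfl⟩ := hw
      rw [extσ_ιMulti, extσ_ιMulti, extσ_ιMulti, extσ_ιMulti]
      congr 1
      funext j
      let g : X'.presheaf.stalk y' →+* X.presheaf.stalk (genericPoint X) := (toK y).comp ρ
      have key : ({ toFun := fun u => spS Ω (hsp y) (ψ u)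
                    map_add' := fun u w => by rw [map_add, map_add]
                    map_smul' := fun r u => by rw [LinearMap.map_smulₛₗ, LinearMap.map_smulₛₗ]; rfl } :
            Ω'.presheaf.stalk y' →ₛₗ[g] Ω.presheaf.stalk (genericPoint X)) =
          { toFun := fun u => (exists_ψ k hd hd' τ hτ).choose (spS Ω' (hsp y') u)
            map_add' := fun u w => by rw [map_add, map_add]
            map_smul' := fun r u => by
              rw [LinearMap.map_smulₛₗ, LinearMap.map_smulₛₗ]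
              exact congrArg (· • _) (hρ r).symm } :=
        diff_ext k hd' fun a => by
          show sp Ω (hsp y) (ψ (dlt k hd' y' a)) = (exists_ψ k hd hd' τ hτ).choose (sp Ω' (hsp y') (dlt k hd' y' a))
          rw [hψ, sp_dlt, sp_dlt, (exists_ψ k hd hd' τ hτ).choose_spec]
          exact congrArg _ (hρ a)
      exact LinearMap.congr_fun key (m j)
    | zero => simp only [map_zero]
    | add a b _ _ ha hb => simp only [map_add, ha, hb]
    | smul a w _ hw =>
      simp only [LinearMap.map_smulₛₗ, hw]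
      exact congrArg (· • _) (hρ a)

variable {σ : X.presheaf.stalk (genericPoint X) →+* X'.presheaf.stalk (genericPoint X')}
  (hσ : ∀ c, σ (Curv2.stalkMap k X (genericPoint X) c) = Curv2.stalkMap k X' (genericPoint X') c)

theorem Xfer.forms_left_inv (hστ : ∀ a, σ (τ a) = a) (w) :
    (Xfer.forms k hσ hd' hd Φ' Φ).T ((Xfer.forms k hτ hd hd' Φ Φ').T w) = w := by
  show (stalkEquiv Φ' _).symm (extσ σ q _ (stalkEquiv Φ _ ((stalkEquiv Φ _).symm _))) = w
  rw [LinearEquiv.apply_symm_apply, LinearEquiv.symm_apply_eq]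
  show extσ σ q _ (extσ τ q _ (stalkEquiv Φ' _ w)) = _
  generalize stalkEquiv Φ' _ w = z
  have hz : z ∈ Submodule.span (X'.presheaf.stalk (genericPoint X')) (Set.range (exteriorPower.ιMulti
      (X'.presheaf.stalk (genericPoint X')) q (M := Ω'.presheaf.stalk (genericPoint X')))) := by
    rw [exteriorPower.ιMulti_span]; trivial
  induction hz using Submodule.span_induction with
  | mem v hv =>
    obtain ⟨m, rfl⟩ := hv
    rw [extσ_ιMulti, extσ_ιMulti]
    congr 1
    funext j
    have key : ({ toFun := fun u => (exists_ψ k hd' hd σ hσ).choose ((exists_ψ k hd hd' τ hτ).choose u)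
                  map_add' := fun u w => by rw [map_add, map_add]
                  map_smul' := fun r u => by rw [LinearMap.map_smulₛₗ, LinearMap.map_smulₛₗ, hστ]; rfl } :
          Ω'.presheaf.stalk (genericPoint X') →ₛₗ[RingHom.id _] Ω'.presheaf.stalk (genericPoint X')) =
        LinearMap.id := diff_ext k hd' fun a => by
      show (exists_ψ k hd' hd σ hσ).choose ((exists_ψ k hd hd' τ hτ).choose (dlt k hd' _ a)) = dlt k hd' _ a
      rw [(exists_ψ k hd hd' τ hτ).choose_spec, (exists_ψ k hd' hd σ hσ).choose_spec, hστ]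
    exact LinearMap.congr_fun key (m j)
  | zero => simp only [map_zero]
  | add a b _ _ ha hb => simp only [map_add, ha, hb]
  | smul a w _ hw => simp only [LinearMap.map_smulₛₗ, hw, hστ]

theorem Xfer.forms_isInv (hστ : ∀ a, σ (τ a) = a) (hτσ : ∀ a, τ (σ a) = a) :
    (Xfer.forms k hτ hd hd' Φ Φ').IsInv (Xfer.forms k hσ hd' hd Φ' Φ) :=
  ⟨Xfer.forms_left_inv k hτ hd hd' Φ Φ' hσ hστ, Xfer.forms_left_inv k hσ hd' hd Φ' Φ hτ hτσ⟩

end Forms

end Groth.Agent.BiratForms70

end
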