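import Groth.Agent.BiratForms70.Forms
import Groth.Agent.S12422
import Groth.Agent.EulerChar.Rank
import Groth.Agent.VBLib.Basic
import Groth.Agent.SGA1Birat.Basic
import Groth.Agent.Omega.DiagUniv

/-!
# Birational invariance of spaces of differential forms
-/

set_option autoImplicit false
set_option linter.style.haveILetI false

universe u

open CategoryTheory Limits AlgebraicGeometry Opposite TopologicalSpace
open scoped TensorProduct

noncomputable section

namespace Groth.Agent.BiratForms70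

open Groth.Agent.HomShQC Groth.Agent.Ref1 Groth.Agent.ExtPowSt

variable {X : Scheme.{u}} [IsIntegral X] [IsLocallyNoetherian X]

theorem FreeCoh.extPow {E L : X.Modules} {i : ℕ} (hE : FreeCoh E) (Φ : Sys i E L) : FreeCoh L := by
  haveI := hE.coh.1
  refine ⟨ExtPowSt.isCoh Φ hE.coh, fun x => ?_, fun x => ?_⟩
  · haveI := hE.free x
    exact Module.Free.of_equiv (stalkEquiv Φ x).symm
  · haveI := hE.finite x
    exact Module.Finite.equiv (stalkEquiv Φ x).symm

theorem FreeCoh.unit : FreeCoh (Coh.structureModule X) :=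
  ⟨(isRef1_structureModule (X := X)).1, fun x => Module.Free.of_equiv (unitStalk x),
    fun x => Module.Finite.equiv (unitStalk x)⟩

theorem FreeCoh.tensor {A B : X.Modules} (hA : FreeCoh A) (hB : FreeCoh B) : FreeCoh (CohB1.tensorMod A B) := by
  refine ⟨isCoh_tensorMod hA.coh hB.coh, fun x => ?_, fun x => ?_⟩
  · haveI := hA.free x; haveI := hB.free x
    exact Module.Free.of_equiv (tEquiv A B x)
  · haveI := hA.finite x; haveI := hB.finite x
    exact Module.Finite.equiv (tEquiv A B x)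

theorem FreeCoh.pow {A : X.Modules} (hA : FreeCoh A) : ∀ m, FreeCoh (CohB1.tensorPow A m)
  | 0 => FreeCoh.unit
  | m + 1 => (FreeCoh.pow hA m).tensor hA

omit [IsIntegral X] in
theorem FreeCoh.ofRank {E : X.Modules} {n : ℕ} (h : FlatMod.IsFinLocFreeOfRank n E) : FreeCoh E := by
  refine ⟨VBLib.isCoh_of_isFinLocFree (VBLib.isFinLocFree_of_ofRank h), fun x => ?_, fun x => ?_⟩
  · obtain ⟨e⟩ := EulerChar.stalk_ofRank h x
    exact Module.Free.of_equiv e
  · obtain ⟨e⟩ := EulerChar.stalk_ofRank h x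
    exact Module.Finite.equiv e

omit [IsLocallyNoetherian X] in
/-- A smooth proper variety: differentials are free and coherent. -/
theorem freeCoh_omega (k : Type u) [Field k] [IsAlgClosed k] [X.Over (Spec (CommRingCat.of k))]
    [IsProper (X ↘ Spec (CommRingCat.of k))] (hreg : ∀ x : X, IsRegularLocalRing (X.presheaf.stalk x))
    {n : ℕ} (hn : topologicalKrullDim X = n) :
    FreeCoh (Omega.sheaf (X ↘ Spec (CommRingCat.of k))) := by
  haveI : IsLocallyNoetherian X := LocallyOfFiniteType.isLocallyNoetherian (X ↘ Spec (CommRingCat.of k))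
  exact FreeCoh.ofRank ((S12422.result k n X hn _ (OmegaSh.dOmega _) (Omega.DiagUniv.isUniversal_dOmega _)).2 hreg)

/-- Equal dimensions of sections of tensor powers of exterior powers of differentials. -/
theorem finrank_pow_extPow (k : Type u) [Field k] [IsAlgClosed k] (n : ℕ)
    (X X' : Scheme.{u}) [X.Over (Spec (CommRingCat.of k))] [X'.Over (Spec (CommRingCat.of k))] [IsIntegral X] [IsIntegral X']
    [IsProper (X ↘ (Spec (CommRingCat.of k)))] [IsProper (X' ↘ (Spec (CommRingCat.of k)))]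
    (hreg : ∀ x : ↥X, IsRegularLocalRing ↑(X.presheaf.stalk x))
    (hreg' : ∀ x : ↥X', IsRegularLocalRing ↑(X'.presheaf.stalk x))
    (hn : topologicalKrullDim ↥X = n) (hn' : topologicalKrullDim ↥X' = n)
    (U : X.Opens) (U' : X'.Opens) (hU : (U : Set ↥X).Nonempty) (e : (U : Scheme.{u}) ≅ (U' : Scheme.{u}))
    (he : e.hom ≫ U'.ι ≫ (X' ↘ (Spec (CommRingCat.of k))) = U.ι ≫ (X ↘ (Spec (CommRingCat.of k))))
    (q : ℕ) (L : X.Modules) (hL : ExtPow.IsExtPow q (Omega.sheaf (X ↘ (Spec (CommRingCat.of k)))) L)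
    (L' : X'.Modules) (hL' : ExtPow.IsExtPow q (Omega.sheaf (X' ↘ (Spec (CommRingCat.of k)))) L') :
    Module.finrank k (Coh.HH X L 0) = Module.finrank k (Coh.HH X' L' 0) ∧
    ∀ m, Module.finrank k (Coh.HH X (CohB1.tensorPow L m) 0) =
      Module.finrank k (Coh.HH X' (CohB1.tensorPow L' m) 0) := by
  haveI : IsLocallyNoetherian X := LocallyOfFiniteType.isLocallyNoetherian (X ↘ Spec (CommRingCat.of k))
  haveI : IsLocallyNoetherian X' := LocallyOfFiniteType.isLocallyNoetherian (X' ↘ Spec (CommRingCat.of k))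
  have hN := SGA1Birat.isNormalScheme_of_regular hreg
  have hN' := SGA1Birat.isNormalScheme_of_regular hreg'
  obtain ⟨τ, hτ⟩ := exists_fieldEquiv k U U' hU e he
  obtain ⟨φ, hφ⟩ := hL
  obtain ⟨φ', hφ'⟩ := hL'
  let Φ : Sys q (Omega.sheaf (X ↘ Spec (CommRingCat.of k))) L := ⟨φ, hφ⟩
  let Φ' : Sys q (Omega.sheaf (X' ↘ Spec (CommRingCat.of k))) L' := ⟨φ', hφ'⟩
  have hΩ := freeCoh_omega k hreg hn
  have hΩ' := freeCoh_omega k hreg' hn'
  haveI := hΩ.coh.1
  haveI := hΩ'.coh.1
  have hd := Omega.DiagUniv.isUniversal_dOmega (X ↘ Spec (CommRingCat.of k))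
  have hd' := Omega.DiagUniv.isUniversal_dOmega (X' ↘ Spec (CommRingCat.of k))
  have hσ : ∀ c, τ.symm.toRingHom (Curv2.stalkMap k X (genericPoint X) c) =
      Curv2.stalkMap k X' (genericPoint X') c := fun c => τ.symm_apply_eq.2 (hτ c).symm
  let f := Xfer.forms k (τ := τ.toRingHom) hτ hd hd' Φ Φ'
  let g := Xfer.forms k (τ := τ.symm.toRingHom) hσ hd' hd Φ' Φ
  have hfg : f.IsInv g := Xfer.forms_isInv k (τ := τ.toRingHom) hτ hd hd' Φ Φ' hσ τ.symm_apply_apply τ.apply_symm_apply
  exact ⟨finrank_eq_of_xfer k hN hN' hτ (hΩ'.extPow Φ') (hΩ.extPow Φ) f g hfg, fun m =>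
    finrank_eq_of_xfer k hN hN' hτ ((hΩ'.extPow Φ').pow m) ((hΩ.extPow Φ).pow m) (f.pow m) (g.pow m)
      (Xfer.IsInv.pow τ.symm_apply_apply τ.apply_symm_apply hfg m)⟩

end Groth.Agent.BiratForms70

end
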