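import Groth.Agent.Ref1.Extend
import Groth.Agent.HTor95.HHModel
import Groth.Prelude.Def_CurvBase
import Mathlib.Topology.Sheaves.SheafCondition.UniqueGluing

/-!
# Global sections of locally free sheaves inside the generic stalk
-/

set_option autoImplicit false

universe u

open CategoryTheory Limits AlgebraicGeometry Opposite TopologicalSpace

noncomputable section

namespace Groth.Agent.BiratForms70

open Groth.Agent.PullStalk.Sky Groth.Agent.HomShQC Groth.Agent.QCoh Groth.Agent.Ref1

variable {X : Scheme.{u}} [IsIntegral X]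

/-- Membership in all codimension one stalks. -/
def Good (G : X.Modules) (w : G.presheaf.stalk (genericPoint X)) : Prop :=
  ∀ y : X, ringKrullDim (X.presheaf.stalk y) = 1 → w ∈ Set.range (toη G y)

/-- A coherent module with free stalks. -/
structure FreeCoh (G : X.Modules) : Prop where
  coh : Coh.IsCoh G
  free : ∀ x, Module.Free (X.presheaf.stalk x) (G.presheaf.stalk x)
  finite : ∀ x, Module.Finite (X.presheaf.stalk x) (G.presheaf.stalk x)

variable [IsLocallyNoetherian X]

theorem FreeCoh.isReflexive {G : X.Modules} (h : FreeCoh G) : RefHull.IsReflexive G :=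
  (isReflexive_iff_of_isCoh G h.coh).mpr fun x => by
    haveI := h.free x
    haveI := h.finite x
    show Module.IsReflexive _ _
    infer_instance

theorem FreeCoh.toη_injective {G : X.Modules} (h : FreeCoh G) (x : X) : Function.Injective (toη G x) :=
  toη_injective_of_isReflexive G h.coh h.isReflexive x

theorem FreeCoh.mem_range (hX : Pi1.IsNormalScheme X) {G : X.Modules} (h : FreeCoh G)
    {w : G.presheaf.stalk (genericPoint X)} (hw : Good G w) (x : X) : w ∈ Set.range (toη G x) :=
  mem_range_of_codim_one hX G h.coh h.isReflexive x w fun y _ hy => hw y hy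

omit [IsLocallyNoetherian X] in
theorem good_germ {G : X.Modules} (s : Γ(G, ⊤)) : Good G (germM G ⊤ (genericPoint X) trivial s) :=
  fun y _ => ⟨germM G ⊤ y trivial s, sp_germ G (hsp y) (U := ⊤) trivial s⟩

theorem FreeCoh.germ_injective {G : X.Modules} (h : FreeCoh G) {U : X.Opens} (hU : genericPoint X ∈ U)
    {s t : Γ(G, U)} (he : germM G U (genericPoint X) hU s = germM G U (genericPoint X) hU t) : s = t := by
  refine TopCat.Presheaf.section_ext ⟨G.presheaf, G.isSheaf⟩ U s t fun x hx => h.toη_injective x ?_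
  show sp G (hsp x) (germM G U x hx s) = sp G (hsp x) (germM G U x hx t)
  rw [sp_germ G (hsp x) hx, sp_germ G (hsp x) hx]
  exact he

theorem FreeCoh.exists_section (hX : Pi1.IsNormalScheme X) {G : X.Modules} (h : FreeCoh G)
    {w : G.presheaf.stalk (genericPoint X)} (hw : Good G w) :
    ∃! s : Γ(G, ⊤), germM G ⊤ (genericPoint X) trivial s = w := by
  have hloc : ∀ x : X, ∃ (W : X.Opens) (_ : x ∈ W) (r : Γ(G, W)), ∀ (z : X) (hz : z ∈ W),
      toη G z (germM G W z hz r) = w := fun x => by
    obtain ⟨c, hc⟩ := h.mem_range hX hw x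
    obtain ⟨W, hxW, r, rfl⟩ := exists_germM_eq G x c
    refine ⟨W, hxW, r, fun z hz => ?_⟩
    rw [← hc]
    exact (sp_germ G (hsp z) hz r).trans (sp_germ G (hsp x) hxW r).symm
  choose W hW r hr using hloc
  let F : TopCat.Sheaf Ab X := ⟨G.presheaf, G.isSheaf⟩
  have hcomp : TopCat.Presheaf.IsCompatible F.obj W r := fun i j => by
    refine TopCat.Presheaf.section_ext F _ _ _ fun z hz => ?_
    refine h.toη_injective z ?_
    refine (congrArg (toη G z) (G.presheaf.germ_res_apply _ z hz (r i))).trans ((hr i z hz.1).trans ?_)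
    exact ((congrArg (toη G z) (G.presheaf.germ_res_apply _ z hz (r j))).trans (hr j z hz.2)).symm
  obtain ⟨g, hg, -⟩ := F.existsUnique_gluing' W ⊤ (fun i => homOfLE le_top)
    (fun z _ => Opens.mem_iSup.mpr ⟨z, hW z⟩) r hcomp
  refine ⟨g, ?_, fun t ht => h.germ_injective (U := ⊤) trivial (ht.trans ?_)⟩
  all_goals
    have hη := hW (genericPoint X)
    have h1 := hr (genericPoint X) (genericPoint X) hη
    rw [← hg (genericPoint X)] at h1
    have h2 : germM G ⊤ (genericPoint X) trivial g = w := by
      refine Eq.trans ?_ h1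
      refine Eq.trans ?_ (congrArg (toη G _) (G.presheaf.germ_res_apply _ (genericPoint X) hη g)).symm
      exact (sp_germ G (hsp (genericPoint X)) (U := ⊤) trivial g).symm
    first | exact h2 | exact h2.symm

variable (k : Type u) [Field k]

/-- A bijection of generic stalks preserving the good elements gives equal `h^0`. -/
theorem finrank_eq [X.Over (Spec (CommRingCat.of k))] (hX : Pi1.IsNormalScheme X)
    {X' : Scheme.{u}} [IsIntegral X'] [IsLocallyNoetherian X'] [X'.Over (Spec (CommRingCat.of k))]
    (hX' : Pi1.IsNormalScheme X') {G : X.Modules} (hG : FreeCoh G) {G' : X'.Modules} (hG' : FreeCoh G')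
    (τ : X'.presheaf.stalk (genericPoint X') →+* X.presheaf.stalk (genericPoint X))
    (hτ : ∀ c, τ (Curv2.stalkMap k X' (genericPoint X') c) = Curv2.stalkMap k X (genericPoint X) c)
    (T : G'.presheaf.stalk (genericPoint X') ≃+ G.presheaf.stalk (genericPoint X))
    (hT : ∀ a w, T (a • w) = τ a • T w)
    (h₁ : ∀ w, Good G' w → Good G (T w)) (h₂ : ∀ w, Good G w → Good G' (T.symm w)) :
    Module.finrank k (Coh.HH X G 0) = Module.finrank k (Coh.HH X' G' 0) := by
  let gη : Coh.HH X G 0 →+ G.presheaf.stalk (genericPoint X) :=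
    (G.presheaf.germ ⊤ (genericPoint X) trivial).hom.comp (HTor95.HHModel.h0 G).toAddMonoidHom
  have hinj : Function.Injective gη := fun a b hab =>
    (HTor95.HHModel.h0 G).injective (hG.germ_injective (U := ⊤) trivial hab)
  have hs : ∀ a : Coh.HH X' G' 0,
      ∃ b : Coh.HH X G 0, gη b = T (germM G' ⊤ (genericPoint X') trivial (HTor95.HHModel.h0 G' a)) := fun a => by
    obtain ⟨s, hs, -⟩ := hG.exists_section hX (h₁ _ (good_germ (HTor95.HHModel.h0 G' a)))
    exact ⟨(HTor95.HHModel.h0 G).symm s, by
      show germM G ⊤ _ trivial (HTor95.HHModel.h0 G ((HTor95.HHModel.h0 G).symm s)) = _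
      rw [AddEquiv.apply_symm_apply]; exact hs⟩
  choose f hf using hs
  have hk : ∀ (Z : Scheme.{u}) [Z.Over (Spec (CommRingCat.of k))] (M : Z.Modules) (z : Z) (c : k)
      (x : Coh.HH Z M 0), germM M ⊤ z trivial (HTor95.HHModel.h0 M (c • x)) =
        Curv2.stalkMap k Z z c • germM M ⊤ z trivial (HTor95.HHModel.h0 M x) := fun Z _ M z c x =>
    (congrArg (germM M ⊤ z trivial) (HTor95.HHModel.h0_smul M (Coh.toGlobal (Z ↘ Spec (CommRingCat.of k)) c) x)).trans
      (germM_smul M ⊤ z trivial _ _)
  let F : Coh.HH X' G' 0 →ₗ[k] Coh.HH X G 0 :=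
    { toFun := f
      map_add' := fun a b => hinj (by
        rw [map_add gη, hf, hf, hf, ← map_add T]
        exact congrArg T ((congrArg (germM G' ⊤ (genericPoint X') trivial) (map_add (HTor95.HHModel.h0 G') a b)).trans
          (map_add (G'.presheaf.germ ⊤ (genericPoint X') trivial).hom _ _)))
      map_smul' := fun c a => hinj (by
        rw [hf, hk, hT, hτ, RingHom.id_apply]
        exact ((hk X G (genericPoint X) c (f a)).trans (congrArg _ (hf a))).symm) }
  refine (LinearEquiv.ofBijective F ⟨fun a b hab => ?_, fun b => ?_⟩).finrank_eq.symm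
  · have := congrArg gη hab
    change gη (f a) = gη (f b) at this
    rw [hf, hf] at this
    exact (HTor95.HHModel.h0 G').injective (hG'.germ_injective (U := ⊤) trivial (T.injective this))
  · obtain ⟨s, hs, -⟩ := hG'.exists_section hX' (h₂ _ (good_germ (HTor95.HHModel.h0 G b)))
    refine ⟨(HTor95.HHModel.h0 G').symm s, hinj ?_⟩
    show gη (f _) = _
    rw [hf, AddEquiv.apply_symm_apply, hs, AddEquiv.apply_symm_apply]
    rfl

end Groth.Agent.BiratForms70

end
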